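import Mathlib
import Cfsg.Prelude.Def_Characters
import Cfsg.Agent.Characters.Core
import Cfsg.Agent.Characters.Clifford
import Cfsg.Agent.CharactersDeep.NormalInd
set_option linter.all false

/-!
# Towards the Clifford correspondence

Restriction of an irreducible character lying over an invariant character, and characters
induced from a subgroup expanded in irreducible characters.
-/

set_option autoImplicit false
open Cfsg

namespace Cfsg.Agent.CharDeep.CliffordCorr

open Cfsg.Agent.Characters.Core Cfsg.Agent.Characters.Clifford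
open Cfsg.Agent.CharactersDeep.NormalInd
open scoped ComplexConjugate

/-- An irreducible character over a conjugation-invariant irreducible character `χ` of a normal
subgroup restricts to a multiple of `χ`. -/
theorem restrict_eq_smul_of_invariant {G : Type*} [Group G] [Fintype G] (N : Subgroup G)
    [N.Normal] [Fintype N] {θ : G → ℂ} (hθ : IsIrrCharacter G θ) {χ : N → ℂ}
    (hχ : IsIrrCharacter N χ)
    (hinv : ∀ g : G, χ ∘ (MulAut.conjNormal g : MulAut N) = χ)
    (h : classInner (fun n : N => θ n) χ ≠ 0) :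
    (fun n : N => θ n) = classInner (fun n : N => θ n) χ • χ := by
  classical
  have := finite_irr (G := N)
  have := Fintype.ofFinite (IrrCharacter N)
  have hc : IsClassFunction N (fun n : N => θ n) :=
    isCharacter_isClassFunction (isCharacter_restrict N (isIrr_isCharacter hθ))
  conv_lhs => rw [classFunction_eq_sum hc]
  rw [Finset.sum_eq_single (⟨χ, hχ⟩ : IrrCharacter N)]
  · intro η _ hη
    by_cases h0 : classInner (fun n : N => θ n) (η : N → ℂ) = 0
    · rw [h0, zero_smul]
    · exfalso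
      obtain ⟨g, hg⟩ := exists_conj_of_constituents N hθ hχ η.2 h h0
      rw [hinv g] at hg
      exact hη (Subtype.ext hg)
  · intro h
    exact absurd (Finset.mem_univ _) h

/-- Version of `restrict_eq_smul_of_invariant` for `H ≤ T`, both subgroups of `G`. -/
theorem restrict_eq_mul_of_invariant {G : Type*} [Group G] [Finite G] (H T : Subgroup G)
    [hN : H.Normal] [Fintype H] (hHT : H ≤ T) {ψ : T → ℂ} (hψ : IsIrrCharacter T ψ)
    {ϑ : H → ℂ} (hϑ : IsIrrCharacter H ϑ)
    (hT : ∀ g ∈ T, ∀ n : H, ϑ ⟨g * n * g⁻¹, hN.conj_mem (n : G) n.2 g⟩ = ϑ n)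
    (h : classInner (fun n : H => ψ ⟨(n : G), hHT n.2⟩) ϑ ≠ 0) (n : H) :
    ψ ⟨(n : G), hHT n.2⟩ = classInner (fun n : H => ψ ⟨(n : G), hHT n.2⟩) ϑ * ϑ n := by
  classical
  have := Fintype.ofFinite T
  have := Fintype.ofFinite (H.subgroupOf T)
  let e : H.subgroupOf T ≃* H := Subgroup.subgroupOfEquivOfLe hHT
  have he : ∀ x : H.subgroupOf T, ((e x : H) : G) = ((x : T) : G) := fun x => rfl
  have hinv : ∀ g : T, (ϑ ∘ e) ∘ (MulAut.conjNormal g : MulAut (H.subgroupOf T)) = ϑ ∘ e := by
    intro g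
    funext x
    have := hT g g.2 (e x)
    simp only [Function.comp]
    rw [← this]
    congr 1
  have hcomp : ∀ φ : H → ℂ, classInner (fun n : H.subgroupOf T => φ (e n)) (ϑ ∘ e) =
      classInner φ ϑ := fun φ => classInner_comp_mulEquiv e φ ϑ
  have h1 : classInner (fun n : H.subgroupOf T => ψ n) (ϑ ∘ e) =
      classInner (fun n : H => ψ ⟨(n : G), hHT n.2⟩) ϑ :=
    hcomp (fun n : H => ψ ⟨(n : G), hHT n.2⟩)
  have key := restrict_eq_smul_of_invariant (H.subgroupOf T) hψ
    (isIrr_comp (e : H.subgroupOf T →* H) e.surjective hϑ) hinv (by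
      show classInner (fun n : H.subgroupOf T => ψ n) (ϑ ∘ e) ≠ 0
      rw [h1]; exact h)
  have key2 := congrFun key (e.symm n)
  have h2 : classInner (fun n : H.subgroupOf T => ψ n) (ϑ ∘ (e : H.subgroupOf T →* H)) =
      classInner (fun n : H => ψ ⟨(n : G), hHT n.2⟩) ϑ := h1
  rw [h2] at key2
  have h3 : (((e.symm n : H.subgroupOf T) : T)) = ⟨(n : G), hHT n.2⟩ := by
    apply Subtype.ext
    rw [← he, MulEquiv.apply_symm_apply]
  simp only [Pi.smul_apply, smul_eq_mul, Function.comp, MonoidHom.coe_coe,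
    MulEquiv.apply_symm_apply] at key2
  rw [h3] at key2
  exact key2

/-- The function induced from a character is a natural combination of irreducible characters,
with coefficients given by Frobenius reciprocity. -/
theorem exists_nat_coeffs_indFun {G : Type*} [Group G] [Fintype G] [Fintype (IrrCharacter G)]
    (H : Subgroup G) [Fintype H] {ψ : H → ℂ} (hψ : IsCharacter H ψ) :
    ∃ c : IrrCharacter G → ℕ, indFun H ψ = ∑ χ : IrrCharacter G, (c χ : ℂ) • (χ : G → ℂ) ∧
      ∀ χ : IrrCharacter G, classInner ψ (fun h : H => (χ : G → ℂ) h) = c χ := by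
  choose c hc using fun χ : IrrCharacter G =>
    classInner_isNat hψ (isCharacter_restrict H (isIrr_isCharacter χ.2))
  refine ⟨c, ?_, hc⟩
  rw [classFunction_eq_sum (indFun_isClassFunction H ψ)]
  refine Finset.sum_congr rfl fun χ _ => ?_
  rw [classInner_indFun H ψ _ (isIrr_isClassFunction χ.2), hc]

/-- The function induced from a character is a character. -/
theorem isCharacter_indFun {G : Type*} [Group G] [Fintype G]
    (H : Subgroup G) {ψ : H → ℂ} (hψ : IsCharacter H ψ) : IsCharacter G (indFun H ψ) := by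
  classical
  have := finite_irr (G := G)
  have := Fintype.ofFinite (IrrCharacter G)
  have := Fintype.ofFinite H
  obtain ⟨c, hc, -⟩ := exists_nat_coeffs_indFun H hψ
  rw [hc]
  refine isCharacter_sum _ fun χ _ => ?_
  have := isCharacter_nsmul (c χ) (isIrr_isCharacter χ.2)
  rwa [← Nat.cast_smul_eq_nsmul ℂ] at this

/-- Expansion of a character in irreducible characters with natural coefficients. -/
theorem exists_nat_coeffs {G : Type*} [Group G] [Fintype G] [Fintype (IrrCharacter G)]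
    {χ : G → ℂ} (hχ : IsCharacter G χ) :
    ∃ c : IrrCharacter G → ℕ, χ = ∑ η : IrrCharacter G, (c η : ℂ) • (η : G → ℂ) ∧
      ∀ η : IrrCharacter G, classInner χ (η : G → ℂ) = c η := by
  choose c hc using fun η : IrrCharacter G => classInner_isNat hχ (isIrr_isCharacter η.2)
  refine ⟨c, ?_, hc⟩
  conv_lhs => rw [classFunction_eq_sum (isCharacter_isClassFunction hχ)]
  refine Finset.sum_congr rfl fun η _ => ?_
  rw [hc]

/-- A lower bound for the degree of a character `χ` of `G` over a character `ϑ` of a normal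
subgroup `H` whose inertia group is `T`: at least `[G : T] * e * ϑ 1`, where `e` is the
multiplicity of `ϑ` in the restriction of `χ`. -/
theorem index_mul_le_degree {G : Type*} [Group G] [Fintype G] (H : Subgroup G) [hN : H.Normal]
    [Fintype H] {ϑ : H → ℂ} (hϑ : IsIrrCharacter H ϑ) (T : Subgroup G)
    (hT : ∀ g : G, g ∈ T ↔ ∀ n : H, ϑ ⟨g * n * g⁻¹, hN.conj_mem (n : G) n.2 g⟩ = ϑ n)
    {χ : G → ℂ} (hχ : IsCharacter G χ) {e d D : ℕ}
    (he : classInner (fun n : H => χ n) ϑ = e) (hd : ϑ 1 = d) (hD : χ 1 = D) :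
    T.index * (e * d) ≤ D := by
  classical
  have := finite_irr (G := H)
  have := Fintype.ofFinite (IrrCharacter H)
  obtain ⟨c, hc, hc'⟩ := exists_nat_coeffs (isCharacter_restrict H hχ)
  choose dd _ hdd using fun η : IrrCharacter H => isIrr_apply_one η.2
  have h1 : D = ∑ η : IrrCharacter H, c η * dd η := by
    have := congrFun hc 1
    simp only [Finset.sum_apply, Pi.smul_apply, smul_eq_mul, hdd, OneMemClass.coe_one, hD] at this
    exact_mod_cast this
  -- the conjugates
  let φ : G → IrrCharacter H := fun g =>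
    ⟨ϑ ∘ (MulAut.conjNormal g⁻¹ : MulAut H), isIrr_conjNormal hϑ g⁻¹⟩
  have hφ : ∀ g g' : G, φ g = φ g' → g⁻¹ * g' ∈ T := by
    intro g g' h
    rw [hT]
    intro n
    have h2 : ϑ ∘ (MulAut.conjNormal g⁻¹ : MulAut H) = ϑ ∘ (MulAut.conjNormal g'⁻¹ : MulAut H) :=
      congrArg Subtype.val h
    have h3 := congrFun h2 (MulAut.conjNormal g' n)
    simp only [Function.comp] at h3
    have e1 : (MulAut.conjNormal g'⁻¹ : MulAut H) ((MulAut.conjNormal g' : MulAut H) n) = n := by
      apply Subtype.ext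
      simp only [MulAut.conjNormal_apply]
      group
    have e2 : (MulAut.conjNormal g⁻¹ : MulAut H) ((MulAut.conjNormal g' : MulAut H) n) =
        ⟨g⁻¹ * g' * n * (g⁻¹ * g')⁻¹, hN.conj_mem (n : G) n.2 (g⁻¹ * g')⟩ := by
      apply Subtype.ext
      simp only [MulAut.conjNormal_apply]
      group
    rw [e1, e2] at h3
    exact h3
  let f : G ⧸ T → IrrCharacter H := fun q => φ q.out
  have hf : Function.Injective f := by
    intro q q' h
    have h2 := hφ _ _ h
    have h3 := QuotientGroup.eq.2 h2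
    simpa using h3
  have := Fintype.ofFinite (G ⧸ T)
  have h2 : ∀ q : G ⧸ T, c (f q) * dd (f q) = e * d := by
    intro q
    have h3 : (c (f q) : ℂ) = e := by
      rw [← hc', ← he]
      exact classInner_restrict_conjNormal (isCharacter_isClassFunction hχ) ϑ _
    have h4 : (dd (f q) : ℂ) = d := by
      rw [← hdd, ← hd]
      show ϑ (MulAut.conjNormal (q.out : G)⁻¹ 1) = ϑ 1
      rw [map_one]
    rw [Nat.cast_injective h3, Nat.cast_injective h4]
  rw [h1]
  calc T.index * (e * d) = ∑ q : G ⧸ T, c (f q) * dd (f q) := by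
        rw [Finset.sum_congr rfl (fun q _ => h2 q), Finset.sum_const, Finset.card_univ,
          smul_eq_mul, ← Nat.card_eq_fintype_card]
        rfl
    _ = ∑ η ∈ Finset.univ.map ⟨f, hf⟩, c η * dd η := by
        rw [Finset.sum_map]
        rfl
    _ ≤ ∑ η : IrrCharacter H, c η * dd η :=
        Finset.sum_le_sum_of_subset (Finset.subset_univ _)

/-- **Clifford correspondence**, surjectivity. -/
theorem clifford_correspondence {G : Type*} [Group G] [Fintype G] (H : Subgroup G)
    [hN : H.Normal] [Fintype H] (ϑ : H → ℂ) (hϑ : IsIrrCharacter H ϑ) (T : Subgroup G)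
    [Fintype T]
    (hT : ∀ g : G, g ∈ T ↔ ∀ n : H, ϑ ⟨g * n * g⁻¹, hN.conj_mem (n : G) n.2 g⟩ = ϑ n)
    (hHT : H ≤ T) (χ : G → ℂ) (hχ : IsIrrCharacter G χ)
    (hcon : classInner (fun n : H => χ n) ϑ ≠ 0) :
    ∃ ψ : T → ℂ, IsIrrCharacter T ψ ∧ indFun T ψ = χ ∧
      classInner (fun n : H => ψ ⟨(n : G), hHT n.2⟩) ϑ = classInner (fun n : H => χ n) ϑ := by
  classical
  have := finite_irr (G := T)
  have := Fintype.ofFinite (IrrCharacter T)
  have := finite_irr (G := G)
  have := Fintype.ofFinite (IrrCharacter G)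
  have hχc := isIrr_isCharacter hχ
  obtain ⟨e, he⟩ := classInner_isNat (isCharacter_restrict H hχc) (isIrr_isCharacter hϑ)
  obtain ⟨a, ha, ha'⟩ := exists_nat_coeffs (isCharacter_restrict T hχc)
  have hres : ∀ ψ : IrrCharacter T, IsCharacter H (fun n : H => (ψ : T → ℂ) ⟨(n : G), hHT n.2⟩) :=
    fun ψ => isCharacter_comp (Subgroup.inclusion hHT) (isIrr_isCharacter ψ.2)
  choose b hb using fun ψ : IrrCharacter T => classInner_isNat (hres ψ) (isIrr_isCharacter hϑ)
  have hsum : e = ∑ ψ : IrrCharacter T, a ψ * b ψ := by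
    have h1 : (fun n : H => χ n) = ∑ ψ : IrrCharacter T,
        (a ψ : ℂ) • (fun n : H => (ψ : T → ℂ) ⟨(n : G), hHT n.2⟩) := by
      funext n
      have := congrFun ha ⟨(n : G), hHT n.2⟩
      simp only [Finset.sum_apply, Pi.smul_apply, smul_eq_mul] at this ⊢
      exact this
    rw [h1, classInner_sum_left] at he
    simp_rw [classInner_smul_left, hb] at he
    exact_mod_cast he.symm
  have he0 : e ≠ 0 := by
    rintro rfl
    rw [he] at hcon
    simp at hcon
  obtain ⟨ψ, hψ⟩ : ∃ ψ : IrrCharacter T, a ψ * b ψ ≠ 0 := by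
    by_contra h
    push Not at h
    exact he0 (by rw [hsum]; exact Finset.sum_eq_zero fun ψ _ => h ψ)
  have haψ : a ψ ≠ 0 := fun h => hψ (by rw [h, zero_mul])
  have hbψ : b ψ ≠ 0 := fun h => hψ (by rw [h, mul_zero])
  -- `f ≤ e`
  have hfe : b ψ ≤ e := by
    calc b ψ ≤ a ψ * b ψ := Nat.le_mul_of_pos_left _ (Nat.pos_of_ne_zero haψ)
      _ ≤ ∑ ψ : IrrCharacter T, a ψ * b ψ :=
        Finset.single_le_sum (f := fun ψ : IrrCharacter T => a ψ * b ψ)
          (fun _ _ => Nat.zero_le _) (Finset.mem_univ ψ)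
      _ = e := hsum.symm
  -- degrees
  obtain ⟨d, hdpos, hd⟩ := isIrr_apply_one hϑ
  obtain ⟨D, hDpos, hD⟩ := isIrr_apply_one hχ
  have hψ1 : (ψ : T → ℂ) 1 = ((b ψ * d : ℕ) : ℂ) := by
    have := restrict_eq_mul_of_invariant H T hHT ψ.2 hϑ (fun g hg => (hT g).1 hg)
      (by rw [hb]; exact_mod_cast hbψ) 1
    rw [hb, hd] at this
    rw [Nat.cast_mul, ← this]
    rfl
  have hlow := index_mul_le_degree H hϑ T hT hχc he hd hD
  obtain ⟨c, hc, hc'⟩ := exists_nat_coeffs_indFun T (isIrr_isCharacter ψ.2)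
  choose dd hddpos hdd using fun η : IrrCharacter G => isIrr_apply_one η.2
  have hcχ : c ⟨χ, hχ⟩ ≠ 0 := by
    intro h0
    have h1 := hc' ⟨χ, hχ⟩
    rw [h0, ← classInner_conj_symm] at h1
    have h2 : classInner (fun t : T => χ t) (ψ : T → ℂ) = a ψ := ha' ψ
    rw [h2] at h1
    simp at h1
    exact haψ h1
  have hdeg : ∑ η : IrrCharacter G, c η * dd η = T.index * (b ψ * d) := by
    have h1 := congrFun hc 1
    rw [indFun_one, hψ1] at h1
    simp only [Finset.sum_apply, Pi.smul_apply, smul_eq_mul, hdd] at h1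
    exact_mod_cast h1.symm
  have hddχ : dd ⟨χ, hχ⟩ = D := by
    have : (dd ⟨χ, hχ⟩ : ℂ) = D := by rw [← hdd, ← hD]
    exact_mod_cast this
  have hsplit : c ⟨χ, hχ⟩ * D + ∑ η ∈ Finset.univ.erase (⟨χ, hχ⟩ : IrrCharacter G), c η * dd η =
      T.index * (b ψ * d) := by
    rw [← hdeg, ← Finset.add_sum_erase _ _ (Finset.mem_univ (⟨χ, hχ⟩ : IrrCharacter G)), hddχ]
  have h1 : T.index * (b ψ * d) ≤ T.index * (e * d) :=
    Nat.mul_le_mul_left _ (Nat.mul_le_mul_right _ hfe)
  have h2 : D ≤ c ⟨χ, hχ⟩ * D := Nat.le_mul_of_pos_left _ (Nat.pos_of_ne_zero hcχ)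
  have h3 : ∑ η ∈ Finset.univ.erase (⟨χ, hχ⟩ : IrrCharacter G), c η * dd η = 0 := by omega
  have h4 : c ⟨χ, hχ⟩ * D = D := by omega
  have h5 : T.index * (b ψ * d) = T.index * (e * d) := by omega
  have hc1 : c ⟨χ, hχ⟩ = 1 := by
    have : c ⟨χ, hχ⟩ * D = 1 * D := by rw [h4, one_mul]
    exact Nat.eq_of_mul_eq_mul_right hDpos this
  have hTpos : 0 < T.index := Nat.pos_of_ne_zero Subgroup.index_ne_zero_of_finite
  have hbe : b ψ = e := Nat.eq_of_mul_eq_mul_right hdpos (Nat.eq_of_mul_eq_mul_left hTpos h5)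
  refine ⟨ψ, ψ.2, ?_, by rw [hb, he, hbe]⟩
  rw [hc, ← Finset.add_sum_erase _ _ (Finset.mem_univ (⟨χ, hχ⟩ : IrrCharacter G)), hc1,
    Nat.cast_one, one_smul, Finset.sum_eq_zero, add_zero]
  intro η hη
  have h6 := (Finset.sum_eq_zero_iff.1 h3) η hη
  have h7 : c η = 0 := by
    rcases Nat.mul_eq_zero.1 h6 with h | h
    · exact h
    · exact absurd h (hddpos η).ne'
  rw [h7, Nat.cast_zero, zero_smul]

end Cfsg.Agent.CharDeep.CliffordCorr
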