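import Mathlib
import Cfsg.Prelude.Def_Characters
set_option linter.all false

/-!
# Irreducibility criteria; characters of degree one are homomorphisms to `ℂˣ`
-/

set_option autoImplicit false

namespace Cfsg.Agent.CharDeep.LinearChar

open Cfsg

section Irr

variable {k G V : Type*} [Field k] [Monoid G] [AddCommGroup V] [Module k V]

/-- Irreducibility in terms of invariant submodules. -/
theorem isIrreducible_iff (ρ : Representation k G V) :
    ρ.IsIrreducible ↔
      Nontrivial V ∧ ∀ W : Submodule k V, (∀ g, ∀ v ∈ W, ρ g v ∈ W) → W = ⊥ ∨ W = ⊤ := by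
  constructor
  · intro h
    have hne : (⊥ : Subrepresentation ρ) ≠ ⊤ := bot_ne_top
    refine ⟨?_, fun W hW => ?_⟩
    · by_contra hV
      rw [not_nontrivial_iff_subsingleton] at hV
      exact hne (Subrepresentation.toSubmodule_injective (Subsingleton.elim _ _))
    · rcases h.eq_bot_or_eq_top ⟨W, fun g v hv => hW g v hv⟩ with h | h
      · left; exact congrArg Subrepresentation.toSubmodule h
      · right; exact congrArg Subrepresentation.toSubmodule h
  · rintro ⟨hV, hW⟩
    exact
      { exists_pair_ne := ⟨⊥, ⊤, fun h => by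
          have : (⊥ : Submodule k V) = ⊤ := congrArg Subrepresentation.toSubmodule h
          exact bot_ne_top this⟩
        eq_bot_or_eq_top := fun W => by
          rcases hW W.toSubmodule (fun g v hv => W.apply_mem_toSubmodule g hv) with h | h
          · left; exact Subrepresentation.toSubmodule_injective h
          · right; exact Subrepresentation.toSubmodule_injective h }

/-- If the restriction along a homomorphism is irreducible, so is the representation. -/
theorem isIrreducible_of_comp {H : Type*} [Monoid H] (f : H →* G) (ρ : Representation k G V)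
    (h : Representation.IsIrreducible (ρ.comp f)) : ρ.IsIrreducible := by
  rw [isIrreducible_iff] at h ⊢
  exact ⟨h.1, fun W hW => h.2 W fun g v hv => hW (f g) v hv⟩

/-- The restriction of an irreducible representation along a surjective homomorphism is
irreducible. -/
theorem isIrreducible_comp {H : Type*} [Monoid H] (f : H →* G) (hf : Function.Surjective f)
    (ρ : Representation k G V) (h : ρ.IsIrreducible) :
    Representation.IsIrreducible (ρ.comp f) := by
  rw [isIrreducible_iff] at h ⊢
  refine ⟨h.1, fun W hW => h.2 W fun g v hv => ?_⟩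
  obtain ⟨x, rfl⟩ := hf g
  exact hW x v hv

/-- Representations on one-dimensional spaces are irreducible. -/
theorem isIrreducible_of_finrank (ρ : Representation k G V) (h : Module.finrank k V = 1) :
    ρ.IsIrreducible := by
  rw [isIrreducible_iff]
  have := isSimpleModule_iff_finrank_eq_one.2 h
  refine ⟨IsSimpleModule.nontrivial k V, fun W _ => ?_⟩
  exact eq_bot_or_eq_top W

end Irr

variable {G : Type*} [Group G]

/-- The representation on `Fin 1 → ℂ` given by a homomorphism to `ℂˣ`. -/
def linRep (f : G →* ℂˣ) : Representation ℂ G (Fin 1 → ℂ) where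
  toFun g := (f g : ℂ) • (1 : Module.End ℂ (Fin 1 → ℂ))
  map_one' := by simp
  map_mul' g h := by simp [smul_smul, mul_comm]

theorem linRep_character (f : G →* ℂˣ) : (linRep f).character = fun g => (f g : ℂ) := by
  ext g
  show LinearMap.trace ℂ (Fin 1 → ℂ) ((f g : ℂ) • (1 : Module.End ℂ (Fin 1 → ℂ))) = f g
  rw [map_smul, LinearMap.trace_one]
  simp

/-- A homomorphism to `ℂˣ` is a character (of degree one). -/
theorem isCharacter_of_hom (f : G →* ℂˣ) : IsCharacter G (fun g => (f g : ℂ)) :=
  ⟨1, linRep f, linRep_character f⟩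

/-- A homomorphism to `ℂˣ` is an irreducible character. -/
theorem isIrrCharacter_of_hom (f : G →* ℂˣ) : IsIrrCharacter G (fun g => (f g : ℂ)) :=
  ⟨1, linRep f, isIrreducible_of_finrank _ (by simp), linRep_character f⟩

/-- The trace of an endomorphism of `Fin 1 → ℂ` is its determinant. -/
theorem trace_eq_det (T : (Fin 1 → ℂ) →ₗ[ℂ] (Fin 1 → ℂ)) :
    LinearMap.trace ℂ (Fin 1 → ℂ) T = LinearMap.det T := by
  rw [← LinearMap.det_toMatrix', LinearMap.trace_eq_matrix_trace ℂ (Pi.basisFun ℂ (Fin 1)) T]
  simp [Matrix.trace, LinearMap.toMatrix'_apply]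

/-- A character of degree one is a homomorphism to `ℂˣ`. -/
theorem exists_hom_of_isCharacter {μ : G → ℂ} (h : IsCharacter G μ) (h1 : μ 1 = 1) :
    ∃ f : G →* ℂˣ, ∀ g, μ g = f g := by
  obtain ⟨n, ρ, hρ⟩ := h
  have hn : n = 1 := by
    rw [← hρ, Representation.char_one] at h1
    simpa using h1
  subst hn
  let D : ((Fin 1 → ℂ) →ₗ[ℂ] (Fin 1 → ℂ)) →* ℂ := LinearMap.det
  refine ⟨MonoidHom.toHomUnits (D.comp ρ), fun g => ?_⟩
  rw [← hρ]
  show LinearMap.trace ℂ (Fin 1 → ℂ) (ρ g) = LinearMap.det (ρ g)
  exact trace_eq_det _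

end Cfsg.Agent.CharDeep.LinearChar
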