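import Mathlib
import Cfsg.Agent.CharDeep.IrrEquiv
import Cfsg.Agent.CharDeep.TransferExt
set_option linter.all false

/-!
# Extending invariant irreducible representations from normal subgroups

`N` is normal in `G` and `ρ` is an irreducible complex representation of `N` on `V`. The group
`intGroup ρ` consists of the pairs `(g, T)` in `G × GL(V)` with `T ρ(n) T⁻¹ = ρ(g n g⁻¹)` for all
`n ∈ N`. If `Δ` is a subgroup of it that projects onto `G`, then `ρ` extends to `G` as soon as the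
"scalar" homomorphism `(n, c • ρ(n)) ↦ c`, defined on the preimage of `N` in `Δ`, extends to `Δ`.
-/

set_option autoImplicit false

namespace Cfsg.Agent.CharDeep.ProjExt

open Cfsg Representation Module Cfsg.Agent.CharDeep.IrrEquiv Cfsg.Agent.CharDeep.TransferExt

variable {G V : Type*} [Group G] [AddCommGroup V] [Module ℂ V]

/-- Pairs `(g, T)` with `T ρ(n) T⁻¹ = ρ(g n g⁻¹)`. -/
def intGroup {N : Subgroup G} [hN : N.Normal] (ρ : Representation ℂ N V) :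
    Subgroup (G × (V →ₗ[ℂ] V)ˣ) where
  carrier := {x | ∀ n : N, (x.2 : V →ₗ[ℂ] V) * ρ n = ρ (MulAut.conjNormal x.1 n) * x.2}
  mul_mem' := by
    intro x y hx hy n
    show ((x.2 * y.2 : (V →ₗ[ℂ] V)ˣ) : V →ₗ[ℂ] V) * ρ n =
      ρ (MulAut.conjNormal (x.1 * y.1) n) * ((x.2 * y.2 : (V →ₗ[ℂ] V)ˣ) : V →ₗ[ℂ] V)
    rw [Units.val_mul, mul_assoc, hy n, ← mul_assoc, hx, mul_assoc, map_mul]
    rfl
  one_mem' := by
    intro n
    show ((1 : (V →ₗ[ℂ] V)ˣ) : V →ₗ[ℂ] V) * ρ n =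
      ρ (MulAut.conjNormal 1 n) * ((1 : (V →ₗ[ℂ] V)ˣ) : V →ₗ[ℂ] V)
    rw [map_one, Units.val_one, one_mul, mul_one]
    rfl
  inv_mem' := by
    intro x hx n
    show ((x.2⁻¹ : (V →ₗ[ℂ] V)ˣ) : V →ₗ[ℂ] V) * ρ n =
      ρ (MulAut.conjNormal x.1⁻¹ n) * ((x.2⁻¹ : (V →ₗ[ℂ] V)ˣ) : V →ₗ[ℂ] V)
    have h1 := hx (MulAut.conjNormal x.1⁻¹ n)
    have h2 : (MulAut.conjNormal x.1) ((MulAut.conjNormal x.1⁻¹) n) = n := by
      rw [← MulAut.mul_apply, ← map_mul, mul_inv_cancel, map_one, MulAut.one_apply]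
    rw [h2] at h1
    rw [Units.inv_mul_eq_iff_eq_mul, ← mul_assoc, h1, mul_assoc, Units.mul_inv, mul_one]

theorem mem_intGroup {N : Subgroup G} [hN : N.Normal] (ρ : Representation ℂ N V)
    (x : G × (V →ₗ[ℂ] V)ˣ) : x ∈ intGroup ρ ↔
      ∀ n : N, (x.2 : V →ₗ[ℂ] V) * ρ n = ρ (MulAut.conjNormal x.1 n) * x.2 := Iff.rfl

/-- The projection of a subgroup of `G × GL(V)` to `G`. -/
def proj (Δ : Subgroup (G × (V →ₗ[ℂ] V)ˣ)) : Δ →* G :=
  (MonoidHom.fst G (V →ₗ[ℂ] V)ˣ).comp Δ.subtype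

/-- The projection of a subgroup of `G × GL(V)` to `GL(V)`. -/
def opr (Δ : Subgroup (G × (V →ₗ[ℂ] V)ˣ)) : Δ →* (V →ₗ[ℂ] V)ˣ :=
  (MonoidHom.snd G (V →ₗ[ℂ] V)ˣ).comp Δ.subtype

theorem proj_apply (Δ : Subgroup (G × (V →ₗ[ℂ] V)ˣ)) (x : Δ) : proj Δ x = x.1.1 := rfl

theorem opr_apply (Δ : Subgroup (G × (V →ₗ[ℂ] V)ˣ)) (x : Δ) : opr Δ x = x.1.2 := rfl

/-- Existence of intertwiners, with prescribed determinant. -/
theorem exists_mem_intGroup [FiniteDimensional ℂ V] {N : Subgroup G} [hN : N.Normal] [Finite N]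
    (ρ : Representation ℂ N V) (hρ : ρ.IsIrreducible)
    (hinv : ∀ (g : G) (n : N), ρ.character (MulAut.conjNormal g n) = ρ.character n)
    (g : G) (c : ℂˣ) : ∃ T : (V →ₗ[ℂ] V)ˣ, (g, T) ∈ intGroup ρ ∧
      LinearMap.det (T : V →ₗ[ℂ] V) = c := by
  have hV : Nontrivial V := ((LinearChar.isIrreducible_iff ρ).1 hρ).1
  let σ : Representation ℂ N V := ρ.comp (MulAut.conjNormal g : MulAut N).toMonoidHom
  have hchar : ρ.character = σ.character := by
    ext n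
    exact (hinv g n).symm
  obtain ⟨φ⟩ := nonempty_equiv ρ σ hρ hchar
  let T : (V →ₗ[ℂ] V)ˣ := LinearMap.GeneralLinearGroup.ofLinearEquiv φ.toLinearEquiv
  have hT : ∀ n : N, (T : V →ₗ[ℂ] V) * ρ n = ρ (MulAut.conjNormal g n) * T := fun n =>
    φ.isIntertwining' n
  have hdet : LinearMap.det (T : V →ₗ[ℂ] V) ≠ 0 := by
    have : IsUnit (LinearMap.det (T : V →ₗ[ℂ] V)) := T.isUnit.map _
    exact this.ne_zero
  obtain ⟨z, hz⟩ := IsAlgClosed.exists_pow_nat_eq ((c : ℂ) / LinearMap.det (T : V →ₗ[ℂ] V))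
    (finrank_pos (R := ℂ) (M := V))
  have hz0 : z ≠ 0 := by
    rintro rfl
    rw [zero_pow (finrank_pos (R := ℂ) (M := V)).ne'] at hz
    exact (div_ne_zero c.ne_zero hdet) hz.symm
  let Z : (V →ₗ[ℂ] V)ˣ := Units.map (algebraMap ℂ (V →ₗ[ℂ] V)).toMonoidHom (Units.mk0 z hz0)
  have hZ : (Z : V →ₗ[ℂ] V) = z • (1 : V →ₗ[ℂ] V) := Algebra.algebraMap_eq_smul_one z
  refine ⟨Z * T, fun n => ?_, ?_⟩
  · show ((Z * T : (V →ₗ[ℂ] V)ˣ) : V →ₗ[ℂ] V) * ρ n =
      ρ (MulAut.conjNormal g n) * ((Z * T : (V →ₗ[ℂ] V)ˣ) : V →ₗ[ℂ] V)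
    rw [Units.val_mul, hZ, smul_mul_assoc, one_mul, smul_mul_assoc, hT n, mul_smul_comm]
  · rw [Units.val_mul, hZ, smul_mul_assoc, one_mul, LinearMap.det_smul, hz,
      div_mul_cancel₀ _ hdet]

/-- On the part of `Δ ≤ intGroup ρ` lying over a subgroup `P ≥ N` to which `ρ` extends, the
operators are scalar multiples of the extension, and the scalars give a homomorphism. -/
theorem exists_scalarHom [FiniteDimensional ℂ V] {N : Subgroup G} [hN : N.Normal]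
    (ρ : Representation ℂ N V) (hρ : ρ.IsIrreducible) (Δ : Subgroup (G × (V →ₗ[ℂ] V)ˣ))
    (hΔ : Δ ≤ intGroup ρ) (P : Subgroup G) (hNP : N ≤ P) (R : Representation ℂ P V)
    (hR : ∀ n : N, R ⟨n, hNP n.2⟩ = ρ n) :
    ∃ ϕ : (P.comap (proj Δ)) →* ℂˣ, ∀ x : P.comap (proj Δ),
      (opr Δ (x : Δ) : V →ₗ[ℂ] V) = (ϕ x : ℂ) • R ⟨proj Δ x, x.2⟩ := by
  have hV : Nontrivial V := ((LinearChar.isIrreducible_iff ρ).1 hρ).1
  have h1 : ∀ x : P.comap (proj Δ), ∃ c : ℂ,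
      (opr Δ (x : Δ) : V →ₗ[ℂ] V) = c • R ⟨proj Δ x, x.2⟩ := by
    intro x
    set g : P := ⟨proj Δ x, x.2⟩ with hg
    have hx := hΔ (x : Δ).2
    rw [mem_intGroup] at hx
    have hinv : R g * R g⁻¹ = 1 := by rw [← map_mul, mul_inv_cancel, map_one]
    have hinv' : R g⁻¹ * R g = 1 := by rw [← map_mul, inv_mul_cancel, map_one]
    obtain ⟨c, hc⟩ := exists_smul_of_commute ρ hρ (R g⁻¹ * (opr Δ (x : Δ) : V →ₗ[ℂ] V)) (by
      intro n
      have h2 : ρ (MulAut.conjNormal (x : Δ).1.1 n) = R g * ρ n * R g⁻¹ := by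
        rw [← hR n, ← hR, ← map_mul, ← map_mul]
        congr 1
      rw [mul_assoc, opr_apply, hx n, h2, mul_assoc, mul_assoc, ← mul_assoc (R g⁻¹), hinv',
        one_mul])
    refine ⟨c, ?_⟩
    rw [← one_mul (opr Δ (x : Δ) : V →ₗ[ℂ] V), ← hinv, mul_assoc, hc, mul_smul_comm, mul_one]
  choose c hc using h1
  have huniq : ∀ (g : P) (a b : ℂ), a • R g = b • R g → a = b := by
    intro g a b hab
    have hinv : R g * R g⁻¹ = 1 := by rw [← map_mul, mul_inv_cancel, map_one]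
    have h2 : (a • R g) * R g⁻¹ = (b • R g) * R g⁻¹ := by rw [hab]
    rw [smul_mul_assoc, smul_mul_assoc, hinv] at h2
    obtain ⟨v, hv⟩ := exists_ne (0 : V)
    have h3 := congrArg (fun T : V →ₗ[ℂ] V => T v) h2
    simp only [LinearMap.smul_apply, Module.End.one_apply] at h3
    exact smul_left_injective ℂ hv h3
  let ϕ : (P.comap (proj Δ)) →* ℂ :=
    { toFun := c
      map_one' := by
        apply huniq 1
        have h3 : (⟨proj Δ ((1 : P.comap (proj Δ)) : Δ), (1 : P.comap (proj Δ)).2⟩ : P) = 1 :=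
          Subtype.ext rfl
        have h4 := hc 1
        rw [h3, map_one] at h4
        rw [map_one, one_smul, ← h4]
        rfl
      map_mul' := by
        intro x y
        apply huniq ⟨proj Δ ((x * y : P.comap (proj Δ)) : Δ), (x * y).2⟩
        rw [← hc (x * y)]
        have h3 : (⟨proj Δ ((x * y : P.comap (proj Δ)) : Δ), (x * y).2⟩ : P) =
            ⟨proj Δ x, x.2⟩ * ⟨proj Δ y, y.2⟩ := by
          apply Subtype.ext
          rfl
        rw [h3, map_mul, Subgroup.coe_mul, map_mul, Units.val_mul, hc x, hc y, smul_mul_assoc,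
          mul_smul_comm, smul_smul] }
  exact ⟨MonoidHom.toHomUnits ϕ, hc⟩

/-- If the scalar homomorphism extends to `Δ` and `Δ` projects onto `G`, then `ρ` extends. -/
theorem exists_extension_of_hom {N : Subgroup G} (ρ : Representation ℂ N V)
    (Δ : Subgroup (G × (V →ₗ[ℂ] V)ˣ)) (hsurj : Function.Surjective (proj Δ)) (ψ : Δ →* ℂˣ)
    (hψ : ∀ (x : Δ) (hx : proj Δ x ∈ N),
      (opr Δ x : V →ₗ[ℂ] V) = (ψ x : ℂ) • ρ ⟨proj Δ x, hx⟩) :
    ∃ R : Representation ℂ G V, (∀ n : N, R n = ρ n) ∧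
      ∀ x : Δ, (opr Δ x : V →ₗ[ℂ] V) = (ψ x : ℂ) • R (proj Δ x) := by
  let s : ℂˣ →* (V →ₗ[ℂ] V)ˣ := Units.map (algebraMap ℂ (V →ₗ[ℂ] V)).toMonoidHom
  have hs : ∀ z : ℂˣ, ((s z : (V →ₗ[ℂ] V)ˣ) : V →ₗ[ℂ] V) = (z : ℂ) • (1 : V →ₗ[ℂ] V) :=
    fun z => Algebra.algebraMap_eq_smul_one (z : ℂ)
  have hcomm : ∀ (z : ℂˣ) (T : (V →ₗ[ℂ] V)ˣ), s z * T = T * s z := by
    intro z T
    apply Units.ext
    rw [Units.val_mul, Units.val_mul, hs, smul_mul_assoc, mul_smul_comm, one_mul, mul_one]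
  let f : Δ →* (V →ₗ[ℂ] V)ˣ :=
    { toFun := fun x => s (ψ x)⁻¹ * opr Δ x
      map_one' := by simp
      map_mul' := by
        intro x y
        rw [map_mul, map_mul, mul_inv, map_mul, mul_assoc, mul_assoc, ← mul_assoc (s (ψ y)⁻¹),
          hcomm _ (opr Δ x), mul_assoc] }
  have hf' : ∀ x : Δ, (f x : V →ₗ[ℂ] V) = (((ψ x)⁻¹ : ℂˣ) : ℂ) • (opr Δ x : V →ₗ[ℂ] V) := by
    intro x
    show ((s (ψ x)⁻¹ * opr Δ x : (V →ₗ[ℂ] V)ˣ) : V →ₗ[ℂ] V) = _
    rw [Units.val_mul, hs, smul_mul_assoc, one_mul]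
  have hf : ∀ (x : Δ) (hx : proj Δ x ∈ N), (f x : V →ₗ[ℂ] V) = ρ ⟨proj Δ x, hx⟩ := by
    intro x hx
    rw [hf', hψ x hx, smul_smul, ← Units.val_mul, inv_mul_cancel, Units.val_one, one_smul]
  have hker : (proj Δ).ker ≤ f.ker := by
    intro x hx
    rw [MonoidHom.mem_ker] at hx ⊢
    have hxN : proj Δ x ∈ N := by rw [hx]; exact N.one_mem
    apply Units.ext
    rw [hf x hxN]
    have : (⟨proj Δ x, hxN⟩ : N) = 1 := Subtype.ext hx
    rw [this, map_one, Units.val_one]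
  let R' : G →* (V →ₗ[ℂ] V)ˣ := (proj Δ).liftOfSurjective hsurj ⟨f, hker⟩
  have hR' : ∀ x : Δ, R' (proj Δ x) = f x :=
    MonoidHom.liftOfRightInverse_comp_apply (proj Δ) _ (Function.rightInverse_surjInv hsurj)
      ⟨f, hker⟩
  refine ⟨(Units.coeHom (V →ₗ[ℂ] V)).comp R', fun n => ?_, fun x => ?_⟩
  · obtain ⟨x, hx⟩ := hsurj n
    show ((R' (n : G) : (V →ₗ[ℂ] V)ˣ) : V →ₗ[ℂ] V) = ρ n
    rw [← hx, hR' x, hf x (by rw [hx]; exact n.2)]
    congr 1
    exact Subtype.ext hx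
  · show _ = (ψ x : ℂ) • ((R' (proj Δ x) : (V →ₗ[ℂ] V)ˣ) : V →ₗ[ℂ] V)
    rw [hR' x, hf', smul_smul, ← Units.val_mul, mul_inv_cancel, Units.val_one, one_smul]

/-- The scalar homomorphism on the part over `N` is invariant under conjugation. -/
theorem scalarHom_conj [FiniteDimensional ℂ V] {N : Subgroup G} [hN : N.Normal]
    (ρ : Representation ℂ N V) (hρ : ρ.IsIrreducible) (Δ : Subgroup (G × (V →ₗ[ℂ] V)ˣ))
    (hΔ : Δ ≤ intGroup ρ) (ϕ : (N.comap (proj Δ)) →* ℂˣ)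
    (hϕ : ∀ x : N.comap (proj Δ), (opr Δ (x : Δ) : V →ₗ[ℂ] V) = (ϕ x : ℂ) • ρ ⟨proj Δ x, x.2⟩)
    (y : Δ) (x : N.comap (proj Δ)) :
    ϕ ⟨y * x * y⁻¹, (inferInstance : (N.comap (proj Δ)).Normal).conj_mem x x.2 y⟩ = ϕ x := by
  have hV : Nontrivial V := ((LinearChar.isIrreducible_iff ρ).1 hρ).1
  have h1 := hϕ ⟨y * x * y⁻¹, (inferInstance : (N.comap (proj Δ)).Normal).conj_mem x x.2 y⟩
  have h2 := hϕ x
  have hy := hΔ y.2
  rw [mem_intGroup] at hy
  have h3 : (opr Δ (y * (x : Δ) * y⁻¹) : V →ₗ[ℂ] V) =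
      (ϕ x : ℂ) • ρ (MulAut.conjNormal y.1.1 ⟨proj Δ x, x.2⟩) := by
    rw [map_mul, map_mul, map_inv, Units.val_mul, Units.val_mul, h2, mul_smul_comm,
      opr_apply, hy, smul_mul_assoc, mul_assoc, Units.mul_inv, mul_one]
  have h4 : (⟨proj Δ (y * (x : Δ) * y⁻¹),
      (inferInstance : (N.comap (proj Δ)).Normal).conj_mem x x.2 y⟩ : N) =
      MulAut.conjNormal y.1.1 ⟨proj Δ x, x.2⟩ := by
    apply Subtype.ext
    rw [MulAut.conjNormal_apply]
    rfl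
  rw [h4] at h1
  have h5 := h1.symm.trans h3
  set g := MulAut.conjNormal y.1.1 ⟨proj Δ x, x.2⟩
  have hinv : ρ g * ρ g⁻¹ = 1 := by rw [← map_mul, mul_inv_cancel, map_one]
  have h6 := congrArg (fun T : V →ₗ[ℂ] V => T * ρ g⁻¹) h5
  simp only [smul_mul_assoc, hinv] at h6
  obtain ⟨v, hv⟩ := exists_ne (0 : V)
  have h7 := congrArg (fun T : V →ₗ[ℂ] V => T v) h6
  simp only [LinearMap.smul_apply, Module.End.one_apply] at h7
  exact Units.ext (smul_left_injective ℂ hv h7)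

/-- Two extensions of an irreducible representation of a normal subgroup differ by a
homomorphism to `ℂˣ` that is trivial on the normal subgroup. -/
theorem exists_hom_of_extensions [FiniteDimensional ℂ V] {N : Subgroup G} [hN : N.Normal]
    (ρ : Representation ℂ N V) (hρ : ρ.IsIrreducible) (R R' : Representation ℂ G V)
    (hR : ∀ n : N, R n = ρ n) (hR' : ∀ n : N, R' n = ρ n) :
    ∃ c : G →* ℂˣ, (∀ n ∈ N, c n = 1) ∧ ∀ g, R' g = (c g : ℂ) • R g := by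
  have hV : Nontrivial V := ((LinearChar.isIrreducible_iff ρ).1 hρ).1
  have hinv : ∀ g, R g * R g⁻¹ = 1 := fun g => by rw [← map_mul, mul_inv_cancel, map_one]
  have hinv' : ∀ g, R g⁻¹ * R g = 1 := fun g => by rw [← map_mul, inv_mul_cancel, map_one]
  have huniq : ∀ (g : G) (a b : ℂ), a • R g = b • R g → a = b := by
    intro g a b hab
    have h2 : (a • R g) * R g⁻¹ = (b • R g) * R g⁻¹ := by rw [hab]
    rw [smul_mul_assoc, smul_mul_assoc, hinv] at h2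
    obtain ⟨v, hv⟩ := exists_ne (0 : V)
    have h3 := congrArg (fun T : V →ₗ[ℂ] V => T v) h2
    simp only [LinearMap.smul_apply, Module.End.one_apply] at h3
    exact smul_left_injective ℂ hv h3
  have h1 : ∀ g : G, ∃ c : ℂ, R' g = c • R g := by
    intro g
    obtain ⟨c, hc⟩ := exists_smul_of_commute ρ hρ (R g⁻¹ * R' g) (by
      intro n
      have h2 : ρ (MulAut.conjNormal g n) = R g * ρ n * R g⁻¹ := by
        rw [← hR n, ← hR, ← map_mul, ← map_mul, MulAut.conjNormal_apply]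
      have h3 : R' g * ρ n = ρ (MulAut.conjNormal g n) * R' g := by
        rw [← hR' n, ← hR', MulAut.conjNormal_apply, ← map_mul, ← map_mul, inv_mul_cancel_right]
      rw [mul_assoc, h3, h2, mul_assoc, mul_assoc, ← mul_assoc (R g⁻¹), hinv',
        one_mul])
    refine ⟨c, ?_⟩
    rw [← one_mul (R' g), ← hinv g, mul_assoc, hc, mul_smul_comm, mul_one]
  choose c hc using h1
  let ϕ : G →* ℂ :=
    { toFun := c
      map_one' := by
        apply huniq 1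
        rw [← hc, map_one, map_one, one_smul]
      map_mul' := by
        intro x y
        apply huniq (x * y)
        rw [← hc (x * y), map_mul, map_mul, hc x, hc y, smul_mul_assoc, mul_smul_comm,
          smul_smul] }
  refine ⟨MonoidHom.toHomUnits ϕ, fun n hn => ?_, hc⟩
  apply Units.ext
  show c n = 1
  apply huniq n
  rw [← hc n, one_smul]
  exact (hR' ⟨n, hn⟩).trans (hR ⟨n, hn⟩).symm

/-- **Gallagher's extension theorem** at the level of representations: an invariant irreducible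
representation of a normal subgroup, of degree prime to the index, whose determinant extends to a
homomorphism `f` on `G`, extends to a representation of `G` with determinant `f`. -/
theorem exists_extension_of_det [FiniteDimensional ℂ V] [Finite G] {N : Subgroup G}
    [hN : N.Normal] (ρ : Representation ℂ N V) (hρ : ρ.IsIrreducible)
    (hinv : ∀ (g : G) (n : N), ρ.character (MulAut.conjNormal g n) = ρ.character n)
    (hcop : Nat.Coprime N.index (finrank ℂ V)) (f : G →* ℂˣ)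
    (hf : ∀ n : N, (f n : ℂ) = LinearMap.det (ρ n)) :
    ∃ R : Representation ℂ G V, (∀ n : N, R n = ρ n) ∧
      ∀ g, LinearMap.det (R g) = f g := by
  let D : (V →ₗ[ℂ] V)ˣ →* ℂˣ := Units.map (LinearMap.det : (V →ₗ[ℂ] V) →* ℂ)
  let Δ : Subgroup (G × (V →ₗ[ℂ] V)ˣ) := intGroup ρ ⊓
    MonoidHom.eqLocus (D.comp (MonoidHom.snd G (V →ₗ[ℂ] V)ˣ))
      (f.comp (MonoidHom.fst G (V →ₗ[ℂ] V)ˣ))
  have hΔ : Δ ≤ intGroup ρ := inf_le_left
  have hdet : ∀ x : Δ, LinearMap.det (opr Δ x : V →ₗ[ℂ] V) = f (proj Δ x) := by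
    intro x
    have h1 : D x.1.2 = f x.1.1 := x.2.2
    exact congrArg Units.val h1
  have hsurj : Function.Surjective (proj Δ) := by
    intro g
    obtain ⟨T, hT, hTd⟩ := exists_mem_intGroup ρ hρ hinv g (f g)
    exact ⟨⟨(g, T), hT, Units.ext hTd⟩, rfl⟩
  obtain ⟨ϕ, hϕ⟩ := exists_scalarHom ρ hρ Δ hΔ N le_rfl ρ (fun n => rfl)
  have hϕd : ∀ x, ϕ x ^ finrank ℂ V = 1 := by
    intro x
    have h1 := hdet x
    rw [hϕ x, LinearMap.det_smul] at h1
    have h2 : (f (proj Δ x) : ℂ) = LinearMap.det (ρ ⟨proj Δ x, x.2⟩) := hf ⟨proj Δ x, x.2⟩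
    rw [← h2] at h1
    apply Units.ext
    rw [Units.val_pow_eq_pow_val, Units.val_one]
    exact mul_eq_right₀ (Units.ne_zero _) |>.1 h1
  have hidx : (N.comap (proj Δ)).index = N.index := Subgroup.index_comap_of_surjective N hsurj
  have : (N.comap (proj Δ)).FiniteIndex := ⟨by rw [hidx]; exact Subgroup.FiniteIndex.index_ne_zero⟩
  obtain ⟨ψ, hψ, hψd⟩ := exists_extension_of_coprime (N.comap (proj Δ)) ϕ
    (fun y x => scalarHom_conj ρ hρ Δ hΔ ϕ hϕ y x) (finrank ℂ V) hϕd (by rw [hidx]; exact hcop)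
  obtain ⟨R, hR, hR'⟩ := exists_extension_of_hom ρ Δ hsurj ψ (by
    intro x hx
    have h1 := hψ ⟨x, hx⟩
    rw [h1]
    exact hϕ ⟨x, hx⟩)
  refine ⟨R, hR, fun g => ?_⟩
  obtain ⟨x, rfl⟩ := hsurj g
  have h1 := hdet x
  rw [hR' x, LinearMap.det_smul, ← Units.val_pow_eq_pow_val, hψd, Units.val_one, one_mul] at h1
  exact h1

end Cfsg.Agent.CharDeep.ProjExt
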